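import Cfsg.Agent.Lib.U43N.Codes
import Cfsg.Agent.Lib.SpectrumU33.SU3
import Cfsg.Agent.S0280

/-!
The normalizer of a subgroup of order seven in `PSU₄(3)`.
-/

set_option autoImplicit false

namespace CfsgLib.U43N

open Matrix Cfsg
open CfsgLib.SpectrumU33 (dec dec_add dec_mul dec_conj dec_one dec_zero dec_inj addC_lt addC mulC conjC)

variable {F : Type*} [Field F]

/-- The vector of a code. -/
def vec (r : F) : V → Fin 4 → F
  | (a, b, c, d) => ![dec r a, dec r b, dec r c, dec r d]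

/-- The matrix of a code. -/
def mat (r : F) : M → Matrix (Fin 4) (Fin 4) F
  | (a, b, c, d) => Matrix.of ![vec r a, vec r b, vec r c, vec r d]

variable [CharP F 3] {r : F} (hr : r * r = -1)
include hr

theorem dec_dot (u v : V) : dec r (dot u v) = vec r u ⬝ᵥ vec r v := by
  obtain ⟨a, b, c, d⟩ := u
  obtain ⟨A, B, C, D⟩ := v
  simp [dot, vec, dotProduct, Fin.sum_univ_four, dec_add, dec_mul hr]

omit [CharP F 3] hr in
theorem mat_tr (A : M) : mat r (tr A) = (mat r A)ᵀ := by
  obtain ⟨⟨a, b, c, d⟩, ⟨e, f, g, h⟩, ⟨i, j, k, l⟩, ⟨m, n, o, p⟩⟩ := A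
  ext s t
  fin_cases s <;> fin_cases t <;> rfl

theorem mulV_eq (A : M) (v : V) : vec r (mulV A v) = mat r A *ᵥ vec r v := by
  obtain ⟨a, b, c, d⟩ := A
  funext i
  fin_cases i <;> exact dec_dot hr _ v

theorem mat_mul (A B : M) : mat r (mulM A B) = mat r A * mat r B := by
  have hB : mat r B = (mat r (tr B))ᵀ := by rw [mat_tr, Matrix.transpose_transpose]
  rw [hB]
  simp only [mulM]
  generalize tr B = C
  obtain ⟨a, b, c, d⟩ := C
  rw [mat_tr]
  ext s t
  fin_cases t
  · exact congrFun (mulV_eq hr A a) s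
  · exact congrFun (mulV_eq hr A b) s
  · exact congrFun (mulV_eq hr A c) s
  · exact congrFun (mulV_eq hr A d) s

omit hr in
theorem mat_one : mat r oneM = 1 := by
  ext s t
  fin_cases s <;> fin_cases t <;> simp [mat, vec, oneM, dec_one, dec_zero]

theorem mat_pow (A : M) : ∀ k, mat r (powM A k) = mat r A ^ k
  | 0 => by rw [pow_zero]; exact mat_one
  | k + 1 => by rw [pow_succ, ← mat_pow A k, ← mat_mul hr]; rfl

omit hr in
theorem dec_trace (A : M) : dec r (trace A) = Matrix.trace (mat r A) := by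
  obtain ⟨⟨a, b, c, d⟩, ⟨e, f, g, h⟩, ⟨i, j, k, l⟩, ⟨m, n, o, p⟩⟩ := A
  simp [trace, mat, vec, Matrix.trace, Fin.sum_univ_four, dec_add]

theorem mat_conj (A : M) : mat r (tr (adj A)) = (mat r A).map (· ^ 3) := by
  obtain ⟨⟨a, b, c, d⟩, ⟨e, f, g, h⟩, ⟨i, j, k, l⟩, ⟨m, n, o, p⟩⟩ := A
  ext s t
  fin_cases s <;> fin_cases t <;> exact dec_conj hr _

omit [CharP F 3] hr in
theorem bound_mulM (A B : M) : bound (mulM A B) = true := by
  simp only [mulM]
  generalize tr B = C
  obtain ⟨⟨a, b, c, d⟩, ⟨e, f, g, h⟩, ⟨i, j, k, l⟩, ⟨m, n, o, p⟩⟩ := A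
  obtain ⟨⟨a', b', c', d'⟩, ⟨e', f', g', h'⟩, ⟨i', j', k', l'⟩, ⟨m', n', o', p'⟩⟩ := C
  simp [bound, tr, mulV, dot, addC_lt]

theorem mat_inj {A B : M} (hA : bound A = true) (hB : bound B = true) (h : mat r A = mat r B) :
    A = B := by
  obtain ⟨⟨a, b, c, d⟩, ⟨e, f, g, h'⟩, ⟨i, j, k, l⟩, ⟨m, n, o, p⟩⟩ := A
  obtain ⟨⟨a', b', c', d'⟩, ⟨e', f', g', h''⟩, ⟨i', j', k', l'⟩, ⟨m', n', o', p'⟩⟩ := B
  simp only [bound, List.all_cons, List.all_nil, Bool.and_true, Bool.and_eq_true, Nat.blt_eq] at hA hB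
  have k' := fun s t => congrFun (congrFun h s) t
  obtain ⟨a1, a2, a3, a4, a5, a6, a7, a8, a9, a10, a11, a12, a13, a14, a15, a16⟩ := hA
  obtain ⟨b1, b2, b3, b4, b5, b6, b7, b8, b9, b10, b11, b12, b13, b14, b15, b16⟩ := hB
  simp only [Prod.mk.injEq]
  exact ⟨⟨dec_inj hr a1 b1 (k' 0 0), dec_inj hr a2 b2 (k' 0 1), dec_inj hr a3 b3 (k' 0 2), dec_inj hr a4 b4 (k' 0 3)⟩,
    ⟨dec_inj hr a5 b5 (k' 1 0), dec_inj hr a6 b6 (k' 1 1), dec_inj hr a7 b7 (k' 1 2), dec_inj hr a8 b8 (k' 1 3)⟩,
    ⟨dec_inj hr a9 b9 (k' 2 0), dec_inj hr a10 b10 (k' 2 1), dec_inj hr a11 b11 (k' 2 2), dec_inj hr a12 b12 (k' 2 3)⟩,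
    ⟨dec_inj hr a13 b13 (k' 3 0), dec_inj hr a14 b14 (k' 3 1), dec_inj hr a15 b15 (k' 3 2), dec_inj hr a16 b16 (k' 3 3)⟩⟩

omit hr in
theorem preserves {A : Matrix (Fin 4) (Fin 4) F} (h : Aᵀ * A.map (· ^ 3) = 1) (u v : Fin 4 → F) :
    hermForm 4 F 3 (A *ᵥ u) (A *ᵥ v) = hermForm 4 F 3 u v := by
  haveI : Fact (Nat.Prime 3) := ⟨Nat.prime_three⟩
  have hform : ∀ a b : Fin 4 → F, hermForm 4 F 3 a b = a ⬝ᵥ (frobenius F 3 ∘ b) := fun a b => rfl
  rw [hform, hform]
  have h2 : frobenius F 3 ∘ (A *ᵥ v) = A.map (frobenius F 3) *ᵥ (frobenius F 3 ∘ v) := by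
    funext i
    exact (frobenius F 3).map_mulVec _ v i
  rw [h2, Matrix.dotProduct_mulVec, ← Matrix.mulVec_transpose, Matrix.mulVec_mulVec]
  have h3 : (A.map (frobenius F 3))ᵀ * A = 1 := by
    have := congrArg Matrix.transpose h
    rw [Matrix.transpose_mul, Matrix.transpose_transpose, Matrix.transpose_one] at this
    exact this
  rw [h3, Matrix.one_mulVec]

omit [CharP F 3] hr in
theorem unitary_of_mem (g : SU 4 F 3) :
    (g.1.1)ᵀ * (g.1.1).map (· ^ 3) = (1 : Matrix (Fin 4) (Fin 4) F) := by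
  ext i j
  have h := g.2 (Pi.single i 1) (Pi.single j 1)
  have hcol : ∀ i k, (slToMat 4 F g.1 *ᵥ Pi.single i 1) k = g.1.1 k i := fun i k => by
    rw [Matrix.mulVec_single_one]; rfl
  simp only [hermForm, hcol] at h
  simp only [Matrix.mul_apply, Matrix.transpose_apply, Matrix.map_apply, h]
  rw [Matrix.one_apply]
  rcases eq_or_ne i j with rfl | hij
  · rw [if_pos rfl, Finset.sum_eq_single i (fun k _ hk => by simp [hk]) (by simp)]
    simp
  · rw [if_neg hij]
    exact Finset.sum_eq_zero fun k _ => by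
      rcases eq_or_ne k i with rfl | hk
      · simp [hij]
      · simp [hk]

omit hr in
theorem mat_scal (c : ℕ) : mat r (scal c) = dec r c • (1 : Matrix (Fin 4) (Fin 4) F) := by
  ext s t
  fin_cases s <;> fin_cases t <;> simp [mat, vec, scal, dec_zero]

omit hr in
theorem det_twist (c : ℕ) : (mat r (twist c)).det = dec r c := by
  have : mat r (twist c) = Matrix.diagonal ![1, 1, 1, dec r c] := by
    ext s t
    fin_cases s <;> fin_cases t <;> simp [mat, vec, twist, dec_zero, dec_one, Matrix.diagonal]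
  rw [this, Matrix.det_diagonal, Fin.prod_univ_four]
  simp

omit hr in
theorem det_eq_one [Fintype F] (hF : Fintype.card F = 9) {A : Matrix (Fin 4) (Fin 4) F} {n : ℕ}
    (hn : Nat.Coprime n 8) (h : A ^ n = 1) : A.det = 1 := by
  have h1 : A.det ^ n = 1 := by rw [← Matrix.det_pow, h, Matrix.det_one]
  have h0 : A.det ≠ 0 := fun h0 => by
    rw [h0, zero_pow (fun h => by subst h; simp at hn)] at h1; exact zero_ne_one h1
  have h8 : A.det ^ 8 = 1 := by
    have := FiniteField.pow_card_sub_one_eq_one A.det h0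
    rwa [hF] at this
  have h2 := pow_gcd_eq_one.mpr ⟨h1, h8⟩
  rwa [hn, pow_one] at h2

set_option maxHeartbeats 1600000 in
theorem main [Fintype F] (hF : Fintype.card F = 9) (S : Subgroup (PSU 4 F 3)) (hS : Nat.card S = 7) :
    Nat.card ↥(Subgroup.normalizer (S : Set (PSU 4 F 3))) = 21 ∧
      Subgroup.centralizer (S : Set (PSU 4 F 3)) = S := by
  classical
  obtain ⟨fe, fX, fY, fYX, fuX, fuY, ftr⟩ := facts
  have hdecb : Function.Bijective fun n : Fin 9 => dec r n.val :=
    (Fintype.bijective_iff_injective_and_card _).mpr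
      ⟨fun m n h => Fin.ext (dec_inj hr m.2 n.2 h), by rw [Fintype.card_fin, hF]⟩
  have hsurj : ∀ t : F, ∃ n, n < 9 ∧ dec r n = t := fun t => by
    obtain ⟨n, hn⟩ := hdecb.2 t
    exact ⟨n, n.2, hn⟩
  have hX7 : mat r X ^ 7 = 1 := by rw [← mat_pow hr, fX, mat_one]
  have hY3 : mat r Y ^ 3 = 1 := by rw [← mat_pow hr, fY, mat_one]
  have hunit : ∀ {A : M}, unit A = true → (mat r A)ᵀ * (mat r A).map (· ^ 3) = 1 := fun {A} h => by
    simp only [unit, beq_iff_eq] at h
    rw [← mat_tr, ← mat_conj hr, ← mat_mul hr, h, mat_one]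
  let sx : SU 4 F 3 := ⟨⟨mat r X, det_eq_one hF (by decide) hX7⟩, preserves (hunit fuX)⟩
  let sy : SU 4 F 3 := ⟨⟨mat r Y, det_eq_one hF (by decide) hY3⟩, preserves (hunit fuY)⟩
  have hval : ∀ g h : SU 4 F 3, g.1.1 = h.1.1 → g = h := fun g h e => Subtype.ext (Subtype.ext e)
  have hxp : ∀ k, (sx ^ k).1.1 = mat r (powM X k) := fun k => by
    rw [mat_pow hr, SubmonoidClass.coe_pow]; exact Matrix.SpecialLinearGroup.coe_pow _ k
  have hx7 : sx ^ 7 = 1 := hval _ _ (by rw [hxp, fX, mat_one]; rfl)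
  have hy3 : sy ^ 3 = 1 := hval _ _ (by
    rw [SubmonoidClass.coe_pow]
    exact (Matrix.SpecialLinearGroup.coe_pow _ 3).trans hY3)
  have hyx : sy * sx = sx ^ 2 * sy := hval _ _ (by
    show mat r Y * mat r X = (sx ^ 2).1.1 * mat r Y
    rw [hxp, ← mat_mul hr, fYX, mat_mul hr])
  haveI : Fact (Nat.Prime 7) := ⟨by norm_num⟩
  have hord : orderOf sx = 7 := by
    refine orderOf_eq_prime hx7 fun h => ?_
    have h1 := congrArg (fun g : SU 4 F 3 => Matrix.trace g.1.1) h
    change Matrix.trace (mat r X) = Matrix.trace (1 : Matrix (Fin 4) (Fin 4) F) at h1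
    rw [← dec_trace, ← mat_one (r := r), ← dec_trace] at h1
    exact absurd (dec_inj hr (by decide) (by decide) h1) (by decide)
  -- the centralizer of `sx`
  have hcent : ∀ g : SU 4 F 3, g * sx = sx * g →
      ∃ c ∈ units4, ∃ k < 7, g.1.1 = dec r c • (sx ^ k).1.1 := by
    intro g hg
    set G := g.1.1 with hG
    have hGX : G * mat r X = mat r X * G := congrArg (fun g : SU 4 F 3 => g.1.1) hg
    choose cd hlt hcd using hsurj
    set w := G *ᵥ vec r e
    let v : V := (cd (w 0), cd (w 1), cd (w 2), cd (w 3))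
    have hv : vec r v = w := by funext i; fin_cases i <;> simp [vec, v, hcd]
    have hspan : G * mat r (span X e) = mat r (span X v) := by
      simp only [span]
      rw [mat_tr, mat_tr]
      ext s t
      have h1 : G *ᵥ (mat r X *ᵥ vec r e) = mat r X *ᵥ vec r v := by
        rw [hv, Matrix.mulVec_mulVec, hGX, ← Matrix.mulVec_mulVec]
      have h2 : G *ᵥ (mat r X *ᵥ (mat r X *ᵥ vec r e)) = mat r X *ᵥ (mat r X *ᵥ vec r v) := by
        rw [Matrix.mulVec_mulVec, hGX, ← Matrix.mulVec_mulVec, h1]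
      have h3 : G *ᵥ (mat r X *ᵥ (mat r X *ᵥ (mat r X *ᵥ vec r e))) =
          mat r X *ᵥ (mat r X *ᵥ (mat r X *ᵥ vec r v)) := by
        rw [Matrix.mulVec_mulVec, hGX, ← Matrix.mulVec_mulVec, h2]
      rw [← mulV_eq hr, ← mulV_eq hr] at h1
      rw [← mulV_eq hr, ← mulV_eq hr, ← mulV_eq hr, ← mulV_eq hr] at h2
      rw [← mulV_eq hr, ← mulV_eq hr, ← mulV_eq hr, ← mulV_eq hr, ← mulV_eq hr, ← mulV_eq hr] at h3
      fin_cases t
      · exact (congrFun hv s).symm
      · exact congrFun h1 s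
      · exact congrFun h2 s
      · exact congrFun h3 s
    set A := mulM (span X v) Kinv with hA
    have hGA : G = mat r A := by
      rw [hA, mat_mul hr, ← hspan, mul_assoc, ← mat_mul hr, fe, mat_one, mul_one]
    have hu : unit A = true := by
      simp only [unit, beq_iff_eq]
      refine mat_inj hr (bound_mulM _ _) (by decide) ?_
      rw [mat_mul hr, mat_tr, mat_conj hr, mat_one, ← hGA]
      exact unitary_of_mem g
    have hn : dot v (vconj v) = 2 := by
      refine dec_inj hr (addC_lt _ _) (by norm_num) ?_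
      rw [dec_dot hr]
      have hvc : vec r (vconj v) = fun i => (vec r v i) ^ 3 := by
        funext i; fin_cases i <;> simp [vec, vconj, v, dec_conj hr]
      rw [hvc, hv]
      show hermForm 4 F 3 w w = dec r 2
      rw [show hermForm 4 F 3 w w = hermForm 4 F 3 (vec r e) (vec r e) from g.2 _ _]
      simp [hermForm, vec, e, dec, Fin.sum_univ_four]
      norm_num
    have hs := searchOK_true
    simp only [searchOK, List.all_eq_true, List.mem_range, Bool.or_eq_true, Bool.not_eq_true',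
      beq_eq_false_iff_ne, List.contains_iff_mem] at hs
    rcases hs _ (hlt (w 0)) _ (hlt (w 1)) _ (hlt (w 2)) _ (hlt (w 3)) with (h | h) | h
    · exact absurd hn h
    · exact absurd (h.symm.trans hu) (by simp)
    · obtain ⟨⟨c, k, d⟩, ht, he⟩ := List.mem_map.mp h
      simp only [cands, List.mem_flatMap, List.mem_range, List.mem_map] at ht
      obtain ⟨c', hc, k', hk, d', hd, heq⟩ := ht
      obtain ⟨rfl, rfl, rfl⟩ : c' = c ∧ k' = k ∧ d' = d := by simpa using heq
      change value (c', k', d') = A at he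
      have hG2 : G = dec r c' • (sx ^ k').1.1 * mat r (twist d') := by
        rw [hGA, ← he]
        simp only [value]
        rw [mat_mul hr, mat_mul hr, mat_scal, hxp, smul_mul_assoc, one_mul]
      have hd1 : dec r d' = 1 := by
        have h := congrArg Matrix.det hG2
        rw [g.1.2, Matrix.det_mul, Matrix.det_smul, (sx ^ k').1.2, det_twist, mul_one] at h
        have hc4 : dec r c' ^ Fintype.card (Fin 4) = 1 := by
          have := congrArg (dec r) (units4_pow c' hc).2.1
          rw [dec_mul hr, dec_mul hr, dec_mul hr, dec_one] at this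
          rw [← this, Fintype.card_fin]; ring
        rw [hc4, one_mul] at h
        exact h.symm
      have hd' : d' = 1 := dec_inj hr (units4_pow d' hd).1 (by norm_num) (by rw [hd1, dec_one])
      subst hd'
      refine ⟨c', hc, k', hk, ?_⟩
      rw [hG2, show twist 1 = oneM from rfl, mat_one, mul_one]
  -- scalars are central, and the center has exponent four
  have hscalar : ∀ (z : SU 4 F 3) (c : F), z.1.1 = c • (1 : Matrix (Fin 4) (Fin 4) F) →
      z ∈ Subgroup.center (SU 4 F 3) := fun z c hz =>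
    Subgroup.mem_center_iff.mpr fun g => hval _ _ (by
      show g.1.1 * z.1.1 = z.1.1 * g.1.1
      rw [hz, mul_smul_comm, mul_one, smul_mul_assoc, one_mul])
  have hsplit : ∀ (g : SU 4 F 3) (k : ℕ) (c : F), g.1.1 = c • (sx ^ k).1.1 →
      g * (sx ^ k)⁻¹ ∈ Subgroup.center (SU 4 F 3) := fun g k c h => by
    refine hscalar _ c ?_
    show g.1.1 * ((sx ^ k)⁻¹).1.1 = _
    rw [h, smul_mul_assoc]
    congr 1
    exact congrArg (fun g : SU 4 F 3 => g.1.1) (mul_inv_cancel (sx ^ k))
  have hconjy : ∀ j : ℕ, sy ^ j * sx * (sy ^ j)⁻¹ = sx ^ (2 ^ j) := by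
    intro j
    induction j with
    | zero => simp
    | succ j ih =>
      have h1 : sy * sx * sy⁻¹ = sx ^ 2 := by rw [hyx, mul_inv_cancel_right]
      calc sy ^ (j + 1) * sx * (sy ^ (j + 1))⁻¹ = sy * (sy ^ j * sx * (sy ^ j)⁻¹) * sy⁻¹ := by
            rw [pow_succ', _root_.mul_inv_rev]; simp only [mul_assoc]
        _ = sx ^ 2 ^ (j + 1) := by rw [ih, ← conj_pow, h1, ← pow_mul, pow_succ']
  have hz4 : ∀ z ∈ Subgroup.center (SU 4 F 3), z ^ 4 = 1 := by
    intro z hz
    have hzc := Subgroup.mem_center_iff.mp hz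
    obtain ⟨c, hc, k, hk, hck⟩ := hcent z (hzc sx).symm
    have hw := hsplit z k _ hck
    have hwc := Subgroup.mem_center_iff.mp hw
    have hxk : sx ^ k * sy = sy * sx ^ k := by
      have e1 := hzc sy
      have e2 := hwc sy
      rw [← mul_assoc, e1, mul_assoc, mul_assoc] at e2
      have e3 := mul_left_cancel e2
      calc sx ^ k * sy = sx ^ k * (sy * (sx ^ k)⁻¹) * sx ^ k := by group
        _ = sy * sx ^ k := by rw [e3]; group
    have h2 : sy * sx ^ k * sy⁻¹ = (sx ^ 2) ^ k := by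
      rw [← conj_pow, hyx, mul_inv_cancel_right]
    rw [← hxk, mul_inv_cancel_right, ← pow_mul, pow_eq_pow_iff_modEq, hord] at h2
    have hk0 : k = 0 := by unfold Nat.ModEq at h2; omega
    subst hk0
    refine hval _ _ ?_
    rw [SubmonoidClass.coe_pow]
    refine (Matrix.SpecialLinearGroup.coe_pow _ 4).trans ?_
    rw [hck, pow_zero, show ((1 : SU 4 F 3)).1.1 = (1 : Matrix (Fin 4) (Fin 4) F) from rfl, smul_pow,
      one_pow]
    have := congrArg (dec r) (units4_pow c hc).2.1
    rw [dec_mul hr, dec_mul hr, dec_mul hr, dec_one] at this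
    rw [show dec r c ^ 4 = 1 by rw [← this]; ring, one_smul]
  set π := QuotientGroup.mk' (Subgroup.center (SU 4 F 3)) with hπ
  set px : PSU 4 F 3 := π sx with hpx
  set py : PSU 4 F 3 := π sy with hpy
  have hpord : orderOf px = 7 := by
    refine orderOf_eq_prime (by rw [hpx, ← map_pow, hx7, map_one]) fun h => ?_
    have h4 := hz4 sx ((QuotientGroup.eq_one_iff sx).mp h)
    have := orderOf_dvd_of_pow_eq_one h4
    rw [hord] at this
    norm_num at this
  have hlift : ∀ (g : SU 4 F 3) (k : ℕ), π g * px * (π g)⁻¹ = px ^ k → g * sx * g⁻¹ = sx ^ k := by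
    intro g k h
    rw [hpx, ← map_mul, ← map_inv, ← map_mul, ← map_pow, eq_comm, hπ, QuotientGroup.mk'_eq_mk'] at h
    obtain ⟨z, hz, hzeq⟩ := h
    have hc : Commute (sx ^ k) z := (Subgroup.mem_center_iff.mp hz (sx ^ k))
    have h7 : z ^ 7 = 1 := by
      have := congrArg (· ^ 7) hzeq
      simp only [hc.mul_pow, conj_pow, hx7, mul_one, mul_inv_cancel, ← pow_mul] at this
      rwa [mul_comm k 7, pow_mul, hx7, one_pow, one_mul] at this
    have hz1 : z = 1 := by
      calc z = (z ^ 4) ^ 2 * (z ^ 7)⁻¹ := by group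
        _ = 1 := by rw [hz4 z hz, h7, one_pow, inv_one, one_mul]
    rw [hz1, mul_one] at hzeq
    exact hzeq.symm
  have hPC : ∀ p : PSU 4 F 3, p * px = px * p → ∃ k < 7, p = px ^ k := by
    intro p hp
    obtain ⟨g, rfl⟩ := QuotientGroup.mk'_surjective _ p
    have h := hlift g 1 (by rw [pow_one, hp, mul_inv_cancel_right])
    rw [pow_one, mul_inv_eq_iff_eq_mul] at h
    obtain ⟨c, -, k, hk, hck⟩ := hcent g h
    refine ⟨k, hk, ?_⟩
    have := (QuotientGroup.eq_one_iff _).mpr (hsplit g k _ hck)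
    change π (g * (sx ^ k)⁻¹) = 1 at this
    rwa [map_mul, map_inv, mul_inv_eq_one, map_pow] at this
  have hpconjy : ∀ j : ℕ, py ^ j * px * (py ^ j)⁻¹ = px ^ (2 ^ j) := fun j => by
    rw [hpx, hpy, ← map_pow, ← map_pow, ← map_inv, ← map_mul, ← map_mul, hconjy]
  set P := Subgroup.zpowers px with hP
  have hPcard : Nat.card P = 7 := by rw [hP, Nat.card_zpowers, hpord]
  have hPmem : ∀ p, p ∈ P ↔ ∃ k < 7, p = px ^ k := fun p => by
    constructor
    · intro hp
      obtain ⟨m, rfl⟩ := (mem_powers_iff_mem_zpowers).mpr hp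
      exact ⟨m % 7, Nat.mod_lt _ (by norm_num), by rw [← hpord, pow_mod_orderOf]⟩
    · rintro ⟨k, -, rfl⟩; exact Subgroup.npow_mem_zpowers _ k
  have hcentP : Subgroup.centralizer (P : Set (PSU 4 F 3)) = P := by
    ext p
    constructor
    · intro hp
      exact (hPmem p).mpr (hPC p (Subgroup.mem_centralizer_iff.mp hp px (Subgroup.mem_zpowers px)).symm)
    · intro hp
      rw [Subgroup.mem_centralizer_iff]
      intro q hq
      obtain ⟨a, rfl⟩ := Subgroup.mem_zpowers_iff.mp hp
      obtain ⟨b, rfl⟩ := Subgroup.mem_zpowers_iff.mp hq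
      exact ((Commute.refl px).zpow_zpow b a).eq
  have hmod7 : ∀ a b : ℕ, a < 3 → b < 3 → 2 ^ a ≡ 2 ^ b [MOD 7] → a = b := by
    intro a b ha hb h
    interval_cases a <;> interval_cases b <;> first | rfl | exact absurd h (by decide)
  have hnormP : Nat.card ↥(Subgroup.normalizer (P : Set (PSU 4 F 3))) = 21 := by
    have hmemy : py ∈ Subgroup.normalizer (P : Set (PSU 4 F 3)) := by
      haveI : Finite (PSU 4 F 3) := inferInstance
      rw [Subgroup.mem_normalizer_iff_conj_image_eq]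
      have hle : P.map (MulAut.conj py).toMonoidHom ≤ P := by
        rw [hP, MonoidHom.map_zpowers, Subgroup.zpowers_le]
        have := hpconjy 1
        rw [pow_one] at this
        show py * px * py⁻¹ ∈ _
        rw [this]; exact Subgroup.npow_mem_zpowers _ _
      have heq := Subgroup.eq_of_le_of_card_ge hle (by
        rw [Subgroup.card_map_of_injective (MulAut.conj py).injective])
      exact congrArg SetLike.coe heq
    have hPle : P ≤ Subgroup.normalizer (P : Set (PSU 4 F 3)) := Subgroup.le_normalizer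
    let f : Fin 3 × Fin 7 → ↥(Subgroup.normalizer (P : Set (PSU 4 F 3))) := fun t =>
      ⟨py ^ (t.1 : ℕ) * px ^ (t.2 : ℕ),
        mul_mem (pow_mem hmemy _) (hPle (Subgroup.npow_mem_zpowers _ _))⟩
    have hf : Function.Bijective f := by
      constructor
      · rintro ⟨a, i⟩ ⟨b, j⟩ h
        have h' : py ^ (a : ℕ) * px ^ (i : ℕ) = py ^ (b : ℕ) * px ^ (j : ℕ) := congrArg Subtype.val h
        have hc : ∀ (a i : ℕ), py ^ a * px ^ i * px * (py ^ a * px ^ i)⁻¹ = px ^ (2 ^ a) := fun a i => by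
          rw [← hpconjy a]; group
        have e := hc a i
        rw [h', hc b j, pow_eq_pow_iff_modEq, hpord] at e
        obtain rfl : a = b := Fin.ext (hmod7 a b a.2 b.2 e.symm)
        have e2 := mul_left_cancel h'
        rw [pow_eq_pow_iff_modEq, hpord, Nat.ModEq, Nat.mod_eq_of_lt i.2, Nat.mod_eq_of_lt j.2] at e2
        rw [Fin.ext e2]
      · rintro ⟨p, hp⟩
        obtain ⟨k, hk, hkeq⟩ := (hPmem _).mp
          ((Subgroup.mem_normalizer_iff.mp hp px).mp (Subgroup.mem_zpowers px))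
        obtain ⟨g, rfl⟩ := QuotientGroup.mk'_surjective _ p
        have hl := hlift g k hkeq
        have htrace : trace (powM X k) = 5 := by
          refine dec_inj hr (by interval_cases k <;> decide) (by norm_num) ?_
          rw [dec_trace, ← hxp, ← hl]
          show Matrix.trace (g.1.1 * mat r X * (g⁻¹).1.1) = _
          rw [Matrix.trace_mul_comm, ← mul_assoc,
            show (g⁻¹).1.1 * g.1.1 = 1 from congrArg (fun g : SU 4 F 3 => g.1.1) (inv_mul_cancel g),
            one_mul, ← dec_trace]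
          rfl
        obtain ⟨j, hj, rfl⟩ : ∃ j < 3, 2 ^ j = k := by
          rcases (ftr k hk).mp htrace with rfl | rfl | rfl
          · exact ⟨0, by norm_num, rfl⟩
          · exact ⟨1, by norm_num, rfl⟩
          · exact ⟨2, by norm_num, rfl⟩
        have hcomm : (py ^ j)⁻¹ * π g * px = px * ((py ^ j)⁻¹ * π g) := by
          rw [← hpconjy j] at hkeq
          calc (py ^ j)⁻¹ * π g * px = (py ^ j)⁻¹ * (π g * px * (π g)⁻¹) * π g := by group
            _ = px * ((py ^ j)⁻¹ * π g) := by rw [hkeq]; group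
        obtain ⟨i, hi, hieq⟩ := hPC _ hcomm
        exact ⟨(⟨j, hj⟩, ⟨i, hi⟩), Subtype.ext (by
          show py ^ j * px ^ i = π g
          rw [← hieq, mul_inv_cancel_left])⟩
    rw [← Nat.card_congr (Equiv.ofBijective f hf), Nat.card_prod, Nat.card_fin, Nat.card_fin]
  -- all subgroups of order seven are conjugate
  have hG : Nat.card (PSU 4 F 3) = 3265920 := by
    have h := Cfsg.Agent.S0280.result (F := F) (q := 3) hF 4 (by norm_num)
    rw [show (∏ i ∈ Finset.range 4, if Even i then (3 : ℕ) ^ (i + 1) + 1 else 3 ^ (i + 1) - 1) = 71680 by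
        decide +kernel, show Nat.gcd 4 (3 + 1) = 4 from rfl] at h
    norm_num at h
    rw [Nat.card_eq_fintype_card]
    exact Nat.eq_of_mul_eq_mul_left (show 0 < 16 by norm_num) (by linarith only [h])
  have hf7 : (Nat.card (PSU 4 F 3)).factorization 7 = 1 := by
    rw [hG, show 3265920 = 7 * 466560 by norm_num, Nat.factorization_mul (by norm_num) (by norm_num)]
    simp [Nat.Prime.factorization_self (by norm_num : Nat.Prime 7),
      Nat.factorization_eq_zero_of_not_dvd (by norm_num : ¬ 7 ∣ 466560)]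
  haveI : Finite (PSU 4 F 3) := inferInstance
  let SS : Sylow 7 (PSU 4 F 3) := Sylow.ofCard S (by rw [hS, hf7, pow_one])
  let PP : Sylow 7 (PSU 4 F 3) := Sylow.ofCard P (by rw [hPcard, hf7, pow_one])
  obtain ⟨t, ht⟩ := MulAction.exists_smul_eq (PSU 4 F 3) PP SS
  have hSP : S = P.map (MulAut.conj t).toMonoidHom := by
    have := congrArg (fun Q : Sylow 7 (PSU 4 F 3) => (Q : Subgroup (PSU 4 F 3))) ht
    exact this.symm
  subst hSP
  refine ⟨?_, ?_⟩
  · have hn := Subgroup.map_normalizer_eq_of_bijective (H := P) (f := (MulAut.conj t).toMonoidHom)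
      (hf := (MulAut.conj t).bijective)
    rw [← hn, Subgroup.card_map_of_injective (MulAut.conj t).injective, hnormP]
  · ext p
    obtain ⟨q, rfl⟩ := (MulAut.conj t).surjective p
    have hm : ∀ K : Subgroup (PSU 4 F 3),
        MulAut.conj t q ∈ K.map (MulAut.conj t).toMonoidHom ↔ q ∈ K := fun K =>
      Subgroup.mem_map_iff_mem (f := (MulAut.conj t).toMonoidHom) (MulAut.conj t).injective
    rw [hm]
    conv_rhs => rw [← hcentP]
    simp only [Subgroup.mem_centralizer_iff, SetLike.mem_coe]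
    constructor
    · intro h x hx
      refine (MulAut.conj t).injective ?_
      rw [map_mul, map_mul]
      exact h _ (Subgroup.mem_map_of_mem (f := (MulAut.conj t).toMonoidHom) hx)
    · rintro h y ⟨x, hx, rfl⟩
      show MulAut.conj t x * MulAut.conj t q = MulAut.conj t q * MulAut.conj t x
      rw [← map_mul, ← map_mul, h x hx]

omit [CharP F 3] hr in
theorem normalizer_seven [Fintype F] (hF : Fintype.card F = 9) (S : Subgroup (PSU 4 F 3))
    (hS : Nat.card S = 7) :
    Nat.card ↥(Subgroup.normalizer (S : Set (PSU 4 F 3))) = 21 ∧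
      Subgroup.centralizer (S : Set (PSU 4 F 3)) = S := by
  haveI : Fact (Nat.Prime 3) := ⟨Nat.prime_three⟩
  haveI : CharP F 3 := charP_of_card_eq_prime_pow (f := 2) (by rw [hF]; norm_num)
  obtain ⟨r, hr'⟩ := (FiniteField.isSquare_neg_one_iff (F := F)).mpr (by rw [hF]; norm_num)
  exact main (r := r) hr'.symm hF S hS

end CfsgLib.U43N
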