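import Cfsg.Agent.Lib.SpectrumU33.SU3Data

/-!
Matrix codes for the normalizer of an element of order seven in `SU₄(3)`.
-/

set_option autoImplicit false
set_option Elab.async false
set_option synthInstance.maxSize 2000
set_option synthInstance.maxHeartbeats 100000

namespace CfsgLib.U43N

open CfsgLib.SpectrumU33 (addC mulC conjC)

abbrev V := ℕ × ℕ × ℕ × ℕ
abbrev M := V × V × V × V

def dot : V → V → ℕ
  | (a, b, c, d), (A, B, C, D) => addC (addC (addC (mulC a A) (mulC b B)) (mulC c C)) (mulC d D)

def vconj : V → V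
  | (a, b, c, d) => (conjC a, conjC b, conjC c, conjC d)

def tr : M → M
  | ((a, b, c, d), (e, f, g, h), (i, j, k, l), (m, n, o, p)) =>
    ((a, e, i, m), (b, f, j, n), (c, g, k, o), (d, h, l, p))

def mulV : M → V → V
  | (a, b, c, d), v => (dot a v, dot b v, dot c v, dot d v)

def mulM (A B : M) : M :=
  match tr B with
  | (a, b, c, d) => tr (mulV A a, mulV A b, mulV A c, mulV A d)

def oneM : M := ((1, 0, 0, 0), (0, 1, 0, 0), (0, 0, 1, 0), (0, 0, 0, 1))
def scal (c : ℕ) : M := ((c, 0, 0, 0), (0, c, 0, 0), (0, 0, c, 0), (0, 0, 0, c))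
def twist (c : ℕ) : M := ((1, 0, 0, 0), (0, 1, 0, 0), (0, 0, 1, 0), (0, 0, 0, c))

def powM (A : M) : ℕ → M
  | 0 => oneM
  | k + 1 => mulM (powM A k) A

def trace : M → ℕ
  | ((a, _, _, _), (_, f, _, _), (_, _, k, _), (_, _, _, p)) => addC (addC (addC a f) k) p

/-- An element of order 7. -/
def X : M := ((0, 4, 5, 0), (0, 4, 7, 0), (1, 0, 0, 0), (0, 0, 0, 1))
/-- An element of order 3 squaring `X`. -/
def Y : M := ((2, 4, 3, 0), (3, 5, 1, 0), (5, 0, 8, 0), (0, 0, 0, 1))
/-- A vector generating the space under `X`. -/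
def e : V := (1, 0, 0, 1)

def span (A : M) (v : V) : M :=
  let a := mulV A v
  let b := mulV A a
  tr (v, a, b, mulV A b)

/-- The inverse of the matrix on the powers of `X` applied to `e`. -/
def Kinv : M := ((7, 0, 6, 3), (4, 7, 5, 8), (7, 4, 7, 5), (3, 1, 3, 6))

def adj : M → M
  | (a, b, c, d) => tr (vconj a, vconj b, vconj c, vconj d)

/-- Unitary columns. -/
def unit (A : M) : Bool := mulM (tr A) (tr (adj A)) == oneM

def units4 : List ℕ := [1, 2, 3, 6]

/-- Candidates commuting with `X`, as scalar, power, twist. -/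
def cands : List (ℕ × ℕ × ℕ) :=
  units4.flatMap fun c => (List.range 7).flatMap fun k => units4.map fun d => (c, k, d)

def value (t : ℕ × ℕ × ℕ) : M := mulM (mulM (scal t.1) (powM X t.2.1)) (twist t.2.2)

def values : List M := cands.map value

/-- A unitary matrix commuting with `X` is determined by a vector. -/
def searchOK : Bool :=
  (List.range 9).all fun a => (List.range 9).all fun b => (List.range 9).all fun c =>
    (List.range 9).all fun d =>
      let g := mulM (span X (a, b, c, d)) Kinv
      !(dot (a, b, c, d) (vconj (a, b, c, d)) == 2) || !unit g || values.contains g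

theorem searchOK_true : searchOK = true := by decide +kernel

theorem facts : mulM (span X e) Kinv = oneM ∧ powM X 7 = oneM ∧ powM Y 3 = oneM ∧
    mulM Y X = mulM (powM X 2) Y ∧ unit X = true ∧ unit Y = true ∧
    (∀ k < 7, trace (powM X k) = 5 ↔ k = 1 ∨ k = 2 ∨ k = 4) := by decide +kernel

def bound : M → Bool
  | ((a, b, c, d), (e, f, g, h), (i, j, k, l), (m, n, o, p)) =>
    [a, b, c, d, e, f, g, h, i, j, k, l, m, n, o, p].all fun x => Nat.blt x 9

theorem units4_pow : ∀ c ∈ units4, c < 9 ∧ mulC (mulC (mulC c c) c) c = 1 ∧ bound (scal c) = true ∧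
    bound (twist c) = true := by decide +kernel

end CfsgLib.U43N
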